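import Cfsg.Prelude.Def_LieExceptional
import Cfsg.Agent.Lib.OddLocal.Basic

/-!
Basic facts on CN-groups (centralizers of non-identity elements nilpotent).
-/

set_option autoImplicit false
set_option linter.unusedSectionVars false

namespace CfsgLib.CN

variable {G : Type*} [Group G] [Finite G]

/-- A finite group in which elements of coprime prime power order commute is nilpotent. -/
theorem isNilpotent_of_primePow_commute
    (h : ∀ (r s : ℕ) (x y : G), r.Prime → s.Prime → r ≠ s → (∃ i, orderOf x = r ^ i) →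
      (∃ j, orderOf y = s ^ j) → x * y = y * x) : Group.IsNilpotent G := by
  refine ((Group.isNilpotent_of_finite_tfae (G := G)).out 0 3 rfl rfl).2 fun p hp P => ?_
  rw [← Subgroup.normalizer_eq_top_iff]
  refine Subgroup.eq_top_of_card_eq _ (Nat.dvd_antisymm (Subgroup.card_subgroup_dvd_card _) ?_)
  refine (Nat.dvd_iff_prime_pow_dvd_dvd _ _).2 fun r k hr hk => ?_
  have := Fact.mk hr
  by_cases hrp : r = p
  · subst hrp
    exact (P.pow_dvd_card_of_pow_dvd_card hk).trans (Subgroup.card_dvd_of_le Subgroup.le_normalizer)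
  · obtain ⟨R⟩ := Sylow.nonempty (p := r) (G := G)
    refine (R.pow_dvd_card_of_pow_dvd_card hk).trans (Subgroup.card_dvd_of_le ?_)
    intro x hx
    rw [Subgroup.mem_normalizer_iff]
    intro y
    have key : ∀ z ∈ (P : Subgroup G), x * z * x⁻¹ = z := fun z hz => by
      obtain ⟨i, hi⟩ := IsPGroup.iff_orderOf.1 R.isPGroup' ⟨x, hx⟩
      obtain ⟨j, hj⟩ := IsPGroup.iff_orderOf.1 P.isPGroup' ⟨z, hz⟩
      rw [Subgroup.orderOf_mk] at hi hj
      rw [h r p x z hr hp.out hrp ⟨i, hi⟩ ⟨j, hj⟩, mul_inv_cancel_right]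
    refine ⟨fun hy => (key y hy).symm ▸ hy, fun hy => ?_⟩
    have h1 := key _ hy
    have h2 : x * y * x⁻¹ = y := mul_left_cancel (mul_right_cancel h1)
    rwa [h2] at hy

/-- `g` has order a power of `r`. -/
def IsPrimePart (r : ℕ) (g : G) : Prop := ∃ i, orderOf g = r ^ i

theorem coprime_orderOf {r s : ℕ} (hr : r.Prime) (hs : s.Prime) (hne : r ≠ s) {x y : G}
    (hx : IsPrimePart r x) (hy : IsPrimePart s y) : (orderOf x).Coprime (orderOf y) := by
  obtain ⟨i, hi⟩ := hx
  obtain ⟨j, hj⟩ := hy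
  rw [hi, hj]
  exact Nat.Coprime.pow _ _ ((Nat.coprime_primes hr hs).2 hne)

/-- In a CN-group two elements of coprime orders commuting with a common non-identity element
commute. -/
theorem commute_of_cn (hCN : Cfsg.IsCNGroup G) {g x y : G} (hg : g ≠ 1) (hx : x * g = g * x)
    (hy : y * g = g * y) (h : (orderOf x).Coprime (orderOf y)) : x * y = y * x :=
  OddLocal.commute_of_mem_nilpotent (hCN g hg) (Subgroup.mem_centralizer_singleton_iff.2 hx)
    (Subgroup.mem_centralizer_singleton_iff.2 hy) h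

theorem isNilpotent_of_le {A B : Subgroup G} (hB : Group.IsNilpotent B) (h : A ≤ B) :
    Group.IsNilpotent A :=
  Group.nilpotent_of_mulEquiv (Subgroup.subgroupOfEquivOfLe h)

theorem cn_subgroup (hCN : Cfsg.IsCNGroup G) (H : Subgroup G) : Cfsg.IsCNGroup H := by
  intro g hg
  have hg' : (g : G) ≠ 1 := fun e => hg (Subtype.ext e)
  have := hCN _ hg'
  let f : Subgroup.centralizer ({g} : Set H) →* Subgroup.centralizer ({(g : G)} : Set G) :=
    { toFun := fun x => ⟨((x : H) : G), Subgroup.mem_centralizer_singleton_iff.2 (by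
        exact congrArg Subtype.val (Subgroup.mem_centralizer_singleton_iff.1 x.2))⟩
      map_one' := rfl
      map_mul' := fun _ _ => rfl }
  have hf : Function.Injective f := fun x y h =>
    Subtype.ext (Subtype.ext (congrArg (fun z : Subgroup.centralizer ({(g : G)} : Set G) => (z : G)) h))
  exact Group.nilpotent_of_mulEquiv (MonoidHom.ofInjective hf).symm

theorem exists_prime_pow_mem {g : G} (hg : g ≠ 1) :
    ∃ r : ℕ, r.Prime ∧ ∃ k : ℕ, orderOf (g ^ k) = r := by
  obtain ⟨r, hr, hrd⟩ := Nat.exists_prime_and_dvd (mt orderOf_eq_one_iff.1 hg)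
  refine ⟨r, hr, orderOf g / r, ?_⟩
  rw [orderOf_pow_of_dvd (Nat.ne_of_gt (Nat.div_pos (Nat.le_of_dvd (orderOf_pos g) hrd) hr.pos))
    (Nat.div_dvd_of_dvd hrd), Nat.div_div_self hrd (orderOf_pos g).ne']

/-- An element splits into commuting parts of `r`-power and prime to `r` order, both powers of it. -/
theorem exists_parts {r : ℕ} (hr : r.Prime) (g : G) : ∃ i j : ℕ, g ^ i * g ^ j = g ∧
    IsPrimePart r (g ^ i) ∧ (orderOf (g ^ j)).Coprime r := by
  set n := orderOf g
  have hn : n ≠ 0 := (orderOf_pos g).ne'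
  set a := r ^ n.factorization r
  set b := n / a
  have hab : a * b = n := Nat.mul_div_cancel' (Nat.ordProj_dvd n r)
  have hcop : r.Coprime b := Nat.coprime_ordCompl hr hn
  obtain ⟨x, hx1, hx2⟩ := Nat.chineseRemainder (hcop.pow_left (n.factorization r)) 1 0
  obtain ⟨y, hy1, hy2⟩ := Nat.chineseRemainder (hcop.pow_left (n.factorization r)) 0 1
  refine ⟨x, y, ?_, ?_, ?_⟩
  · rw [← pow_add]
    conv_rhs => rw [← pow_one g]
    rw [pow_eq_pow_iff_modEq]
    show x + y ≡ 1 [MOD n]
    rw [← hab]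
    exact (Nat.modEq_and_modEq_iff_modEq_mul (hcop.pow_left _)).1 ⟨by simpa using hx1.add hy1,
      by simpa using hx2.add hy2⟩
  · have h : (g ^ x) ^ a = 1 := by
      rw [← pow_mul, ← orderOf_dvd_iff_pow_eq_one]
      show n ∣ x * a
      rw [← hab, mul_comm x]
      exact Nat.mul_dvd_mul_left _ ((Nat.modEq_zero_iff_dvd).1 hx2)
    obtain ⟨i, -, hi⟩ := (Nat.dvd_prime_pow hr).1 (orderOf_dvd_of_pow_eq_one h)
    exact ⟨i, hi⟩
  · have h : (g ^ y) ^ b = 1 := by
      rw [← pow_mul, ← orderOf_dvd_iff_pow_eq_one]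
      show n ∣ y * b
      rw [← hab]
      exact Nat.mul_dvd_mul_right ((Nat.modEq_zero_iff_dvd).1 hy1) _
    exact (hcop.symm).coprime_dvd_left (orderOf_dvd_of_pow_eq_one h)

end CfsgLib.CN
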