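import Cfsg.Prelude.Def_OddOrderLocal
import Cfsg.Agent.Lib.CN.Basic
import Cfsg.Agent.Lib.Solvable.Frobenius
import Cfsg.Agent.Lib.Solvable.FrobeniusComplement
import Cfsg.Agent.Lib.Solvable.UniqueSubgroup
import Mathlib.GroupTheory.SchurZassenhaus
import Mathlib.GroupTheory.SpecificGroups.ZGroup

/-!
Fitting subgroup of a CN-group with two non-trivial cores, nilpotent complements.
-/

set_option autoImplicit false
set_option linter.unusedSectionVars false

namespace CfsgLib.CN

variable {G : Type*} [Group G] [Finite G]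

/-- An element lies in a subgroup as soon as its prime power parts do. -/
theorem mem_of_primeParts {K : Subgroup G} {g : G}
    (h : ∀ (r : ℕ) (k : ℕ), r.Prime → IsPrimePart r (g ^ k) → g ^ k ∈ K) : g ∈ K := by
  suffices hs : ∀ n, ∀ k : ℕ, orderOf (g ^ k) = n → g ^ k ∈ K by
    simpa using hs _ 1 rfl
  intro n
  induction n using Nat.strong_induction_on with
  | _ n ih =>
    intro k hk
    by_cases h1 : g ^ k = 1
    · rw [h1]; exact one_mem K
    obtain ⟨r, hr, hrd⟩ := Nat.exists_prime_and_dvd (mt orderOf_eq_one_iff.1 h1)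
    obtain ⟨i, j, hij, hi, hj⟩ := exists_parts hr (g ^ k)
    rw [← hij]
    refine mul_mem ?_ ?_
    · rw [← pow_mul] at hi ⊢
      exact h r _ hr hi
    · rw [← pow_mul]
      refine ih _ ?_ _ rfl
      rw [pow_mul, ← hk]
      refine lt_of_le_of_ne (Nat.le_of_dvd (orderOf_pos _) (orderOf_pow_dvd _)) fun e => ?_
      rw [e] at hj
      exact Nat.not_coprime_of_dvd_of_dvd hr.one_lt hrd dvd_rfl hj

/-- Two nilpotent subgroups commuting elementwise generate a nilpotent subgroup. -/
theorem isNilpotent_sup_of_commute {A B : Subgroup G} (hA : Group.IsNilpotent A)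
    (hB : Group.IsNilpotent B) (h : ∀ a ∈ A, ∀ b ∈ B, a * b = b * a) :
    Group.IsNilpotent (A ⊔ B : Subgroup G) := by
  let f : A × B →* G := MonoidHom.noncommCoprod A.subtype B.subtype fun a b => h a a.2 b b.2
  have hr : f.range = A ⊔ B := by
    rw [show f.range = A.subtype.range ⊔ B.subtype.range from MonoidHom.noncommCoprod_range _ _ _,
      Subgroup.range_subtype, Subgroup.range_subtype]
  have := Group.nilpotent_of_surjective f.rangeRestrict f.rangeRestrict_surjective
  exact Group.nilpotent_of_mulEquiv (MulEquiv.subgroupCongr hr)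

theorem exists_center_mem {S : Subgroup G} {p : ℕ} (hp : p.Prime) (hS : IsPGroup p S) {N : Subgroup G}
    (hN : N ≤ S) (hn : S ≤ Subgroup.normalizer (N : Set G)) (hN1 : N ≠ ⊥) :
    ∃ z ∈ N, z ≠ 1 ∧ ∀ s ∈ S, s * z = z * s := by
  have := Fact.mk hp
  have : (N.subgroupOf S).Normal := (Subgroup.normal_subgroupOf_iff_le_normalizer hN).2 hn
  let act : MulAction S N :=
    { smul := fun a n => ⟨(a : G) * n * (a : G)⁻¹, (Subgroup.mem_normalizer_iff.1 (hn a.2) n).1 n.2⟩
      one_smul := fun n => Subtype.ext (by show (1 : G) * n * 1⁻¹ = n; group)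
      mul_smul := fun a b n => Subtype.ext (by
        show ((a : G) * b) * n * ((a : G) * b)⁻¹ = a * (b * n * (b : G)⁻¹) * (a : G)⁻¹
        group) }
  have h1 : (1 : N) ∈ MulAction.fixedPoints S N := fun a => Subtype.ext (by
    show (a : G) * 1 * (a : G)⁻¹ = 1; group)
  obtain ⟨⟨z, hz⟩, hzf, hzne⟩ := hS.exists_fixed_point_of_prime_dvd_card_of_fixed_point N
    (by
      obtain ⟨n, hn'⟩ := IsPGroup.iff_card.1 (hS.to_le hN)
      rw [hn']
      refine dvd_pow_self p fun e => hN1 (Subgroup.eq_bot_of_card_eq _ ?_)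
      rw [hn', e, pow_zero]) h1
  refine ⟨z, hz, fun e => hzne (Subtype.ext e.symm), fun s hs => ?_⟩
  exact mul_inv_eq_iff_eq_mul.1 (congrArg Subtype.val (hzf ⟨s, hs⟩))

/-- If two cores are non-trivial, the Sylow subgroups of both primes are normal. -/
theorem sylow_normal_of_pCore (hCN : Cfsg.IsCNGroup G) {p q : ℕ} [Fact p.Prime] [Fact q.Prime]
    (hpq : p ≠ q) (hp : Cfsg.pCore p G ≠ ⊥) (hq : Cfsg.pCore q G ≠ ⊥) (S : Sylow q G) :
    (S : Subgroup G).Normal := by
  set A := Cfsg.pCore p G with hA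
  set B := Cfsg.pCore q G with hB
  have hAn : A.Normal := Subgroup.sSup_normal _ fun _ h => h.1
  have hBn : B.Normal := Subgroup.sSup_normal _ fun _ h => h.1
  have hAp : IsPGroup p A := CfsgLib.Cores.isPGroup_pCore p
  have hBq : IsPGroup q B := CfsgLib.Cores.isPGroup_pCore q
  have hBS : B ≤ S := CfsgLib.Cores.pCore_le_sylow S
  obtain ⟨z, hzB, hz1, hzS⟩ := exists_center_mem (Fact.out : q.Prime) S.isPGroup' hBS
    (by rw [Subgroup.normalizer_eq_top]; exact le_top) hq
  have hzA : ∀ a ∈ A, a * z = z * a := fun a ha =>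
    Subgroup.commute_of_normal_of_disjoint A B hAn hBn
      (IsPGroup.disjoint_of_ne p q hpq A B hAp hBq) a z ha hzB
  set C := Subgroup.centralizer (A : Set G)
  have hSC : (S : Subgroup G) ≤ C := fun s hs => Subgroup.mem_centralizer_iff.2 fun a ha => by
    obtain ⟨i, hi⟩ := IsPGroup.iff_orderOf.1 hAp ⟨a, ha⟩
    obtain ⟨j, hj⟩ := IsPGroup.iff_orderOf.1 S.isPGroup' ⟨s, hs⟩
    rw [Subgroup.orderOf_mk] at hi hj
    exact commute_of_cn hCN hz1 (hzA a ha) (hzS s hs)
      (coprime_orderOf Fact.out Fact.out hpq ⟨i, hi⟩ ⟨j, hj⟩)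
  have hCn : C.Normal := Subgroup.normal_centralizer
  obtain ⟨⟨a, ha⟩, ha1⟩ := Subgroup.ne_bot_iff_exists_ne_one.1 hp
  have hCnil : Group.IsNilpotent C := isNilpotent_of_le (hCN a fun e => ha1 (Subtype.ext e))
    (Subgroup.centralizer_le (Set.singleton_subset_iff.2 ha))
  have h1 : ((S.subtype hSC : Sylow q C) : Subgroup C).Normal :=
    (Group.isNilpotent_of_finite_tfae.out 0 3 rfl rfl).1 hCnil q ‹_› _
  have h2 := Sylow.characteristic_of_normal (S.subtype hSC) h1
  have h3 : ((S.subtype hSC : Subgroup C).map C.subtype).Normal :=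
    ConjAct.normal_of_characteristic_of_normal
  rwa [Sylow.coe_subtype, Subgroup.subgroupOf_map_subtype, inf_eq_left.2 hSC] at h3

theorem sylow_le_fittingHall {p : ℕ} [Fact p.Prime] (S : Sylow p G) (h : (S : Subgroup G).Normal) :
    (S : Subgroup G) ≤ Cfsg.fittingHall G :=
  le_sSup ⟨h, S.isPGroup'.isNilpotent, S.card_coprime_index⟩

/-- With a normal Sylow subgroup, the Fitting subgroup is a Hall subgroup. -/
theorem le_fittingHall_of_normal_sylow (hCN : Cfsg.IsCNGroup G) {p : ℕ} [Fact p.Prime] (S : Sylow p G)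
    (hS1 : (S : Subgroup G) ≠ ⊥) (hSn : (S : Subgroup G).Normal) {N : Subgroup G} [N.Normal]
    (hN : Group.IsNilpotent N) : N ≤ Cfsg.fittingHall G := by
  refine (CfsgLib.Cores.le_fittingSubgroup hN).trans ?_
  rw [CfsgLib.Cores.fittingSubgroup_eq_iSup_pCore]
  refine iSup_le fun ⟨q, hq⟩ => ?_
  have := Fact.mk (Nat.prime_of_mem_primeFactors hq)
  show Cfsg.pCore q G ≤ _
  by_cases hqp : p = q
  · subst hqp
    exact (CfsgLib.Cores.pCore_le_sylow S).trans (sylow_le_fittingHall S hSn)
  by_cases hq1 : Cfsg.pCore q G = ⊥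
  · rw [hq1]; exact bot_le
  obtain ⟨R⟩ := Sylow.nonempty (p := q) (G := G)
  have hSc : (S : Subgroup G) ≤ Cfsg.pCore p G :=
    le_sSup (α := Subgroup G) ⟨hSn, S.isPGroup'⟩
  refine (CfsgLib.Cores.pCore_le_sylow R).trans (sylow_le_fittingHall R
    (sylow_normal_of_pCore hCN hqp (fun e => hS1 (le_bot_iff.1 (e ▸ hSc))) hq1 R))

theorem mem_of_coprime_index {N : Subgroup G} [N.Normal] {g : G}
    (h : (orderOf g).Coprime N.index) : g ∈ N := by
  rw [← QuotientGroup.eq_one_iff, ← orderOf_eq_one_iff]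
  exact Nat.eq_one_of_dvd_coprimes h (orderOf_map_dvd (QuotientGroup.mk' N) g)
    (Subgroup.index_eq_card N ▸ orderOf_dvd_natCard _)

/-- A normal nilpotent Hall subgroup containing all normal nilpotent subgroups isolates its elements. -/
theorem centralizer_le_kernel (hCN : Cfsg.IsCNGroup G) {F : Subgroup G} [F.Normal]
    (hF : Group.IsNilpotent F) (hhall : (Nat.card F).Coprime F.index)
    (hmax : ∀ N : Subgroup G, N.Normal → Group.IsNilpotent N → N ≤ F) {h : G} (hh : h ∈ F)
    (h1 : h ≠ 1) : Subgroup.centralizer ({h} : Set G) ≤ F := by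
  intro e he
  refine mem_of_primeParts fun r k hr hrk => ?_
  have hek : e ^ k * h = h * e ^ k :=
    Subgroup.mem_centralizer_singleton_iff.1 (pow_mem he k)
  set w := e ^ k
  obtain ⟨i, hi⟩ := hrk
  by_cases hrF : r ∣ Nat.card F
  · refine mem_of_coprime_index ?_
    rw [hi]
    exact (Nat.Coprime.coprime_dvd_left hrF hhall).pow_left _
  have hwF : ∀ f ∈ F, (orderOf w).Coprime (orderOf f) := fun f hf => by
    rw [hi]
    exact ((hr.coprime_iff_not_dvd.2 hrF).coprime_dvd_right
      (Subgroup.orderOf_dvd_natCard F hf)).pow_left _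
  have : Nontrivial F := ⟨⟨h, hh⟩, 1, fun e => h1 (congrArg Subtype.val e)⟩
  obtain ⟨⟨z, hz⟩, hz1⟩ := Subgroup.ne_bot_iff_exists_ne_one.1
    (Group.IsNilpotent.center_ne_bot (G := F))
  have hzc : ∀ f ∈ F, f * (z : G) = z * f := fun f hf =>
    congrArg Subtype.val (Subgroup.mem_center_iff.1 hz ⟨f, hf⟩)
  have hz1' : (z : G) ≠ 1 := fun e => hz1 (Subtype.ext (Subtype.ext e))
  have hwz : w * z = z * w :=
    commute_of_cn hCN h1 hek (hzc h hh).symm (hwF z z.2)
  have hwC : w ∈ Subgroup.centralizer (F : Set G) := Subgroup.mem_centralizer_iff.2 fun f hf =>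
    (commute_of_cn hCN hz1' hwz (hzc f hf) (hwF f hf)).symm
  exact hmax _ Subgroup.normal_centralizer (isNilpotent_of_le (hCN h h1)
    (Subgroup.centralizer_le (Set.singleton_subset_iff.2 hh))) hwC

/-- A Frobenius complement in a CN-group is nilpotent. -/
theorem isNilpotent_of_fpf (hCN : Cfsg.IsCNGroup G) {E K : Subgroup G} (hK : K ≠ ⊥)
    (hEK : E ≤ Subgroup.normalizer (K : Set G))
    (hfpf : ∀ a ∈ E, a ≠ 1 → K ⊓ Subgroup.centralizer {a} = ⊥) : Group.IsNilpotent E := by
  by_cases hE : E = ⊥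
  · subst hE; infer_instance
  obtain ⟨⟨z, hz⟩, hz1⟩ := Subgroup.ne_bot_iff_exists_ne_one.1
    (CfsgLib.Solvable.center_ne_bot_of_fpf hK hE hEK hfpf)
  refine isNilpotent_of_le (hCN (z : G) fun e => hz1 (Subtype.ext (Subtype.ext e))) fun a ha => ?_
  exact Subgroup.mem_centralizer_singleton_iff.2
    (congrArg Subtype.val (Subgroup.mem_center_iff.1 hz ⟨a, ha⟩))

/-- The shape of a nilpotent group acting without fixed points. -/
theorem complement_shape {E K : Subgroup G} (hnil : Group.IsNilpotent E) (hK : K ≠ ⊥)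
    (hEK : E ≤ Subgroup.normalizer (K : Set G))
    (hfpf : ∀ a ∈ E, a ≠ 1 → K ⊓ Subgroup.centralizer {a} = ⊥) :
    IsCyclic E ∨ ∃ C Q : Subgroup G, C ⊔ Q = E ∧ (∀ a ∈ C, ∀ b ∈ Q, a * b = b * a) ∧ IsCyclic C ∧
      Odd (Nat.card C) ∧ ∃ n : ℕ, Nonempty (↥Q ≃* QuaternionGroup (2 ^ n)) := by
  have hsylow : ∀ (p : ℕ) [Fact p.Prime] (R : Subgroup G), R ≤ E → IsPGroup p R →
      IsCyclic R ∨ (p = 2 ∧ ∃ n : ℕ, Nonempty (↥R ≃* QuaternionGroup (2 ^ n))) :=
    fun p _ R hR hRp => CfsgLib.Solvable.isCyclic_or_quaternion hRp fun x y hx hy =>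
      CfsgLib.Solvable.mem_zpowers_of_fpf_pGroup hK (hR.trans hEK)
        (CfsgLib.Solvable.fpf_mono hR hfpf) hRp hx hy
  obtain ⟨S⟩ := Sylow.nonempty (p := 2) (G := E)
  rcases hsylow 2 ((S : Subgroup E).map E.subtype) (Subgroup.map_subtype_le _)
    (S.isPGroup'.map E.subtype) with hc | ⟨-, n, ⟨e⟩⟩
  · left
    have : IsZGroup E := ⟨fun p hp R => by
      have := Fact.mk hp
      let ψ : (R : Subgroup E) ≃* ((R : Subgroup E).map E.subtype) :=
        (R : Subgroup E).equivMapOfInjective _ E.subtype_injective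
      by_cases h2 : p = 2
      · subst h2
        have hRn : (R : Subgroup E).Normal :=
          (Group.isNilpotent_of_finite_tfae.out 0 3 rfl rfl).1 hnil 2 ‹_› R
        have hRS : R = S := by
          have := Sylow.unique_of_normal R hRn
          exact Subsingleton.elim R S
        subst hRS
        exact isCyclic_of_surjective ψ.symm ψ.symm.surjective
      · rcases hsylow p _ (Subgroup.map_subtype_le _) (R.isPGroup'.map E.subtype) with h | ⟨h, -⟩
        · exact isCyclic_of_surjective ψ.symm ψ.symm.surjective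
        · exact absurd h h2⟩
    infer_instance
  · right
    have hSn : (S : Subgroup E).Normal :=
      (Group.isNilpotent_of_finite_tfae.out 0 3 rfl rfl).1 hnil 2 ⟨Nat.prime_two⟩ S
    obtain ⟨C, hC⟩ := Subgroup.exists_right_complement'_of_coprime (N := (S : Subgroup E))
      S.card_coprime_index
    have hCcard : Nat.card C = (S : Subgroup E).index := hC.symm.index_eq_card.symm
    have hodd : Odd (Nat.card C) := by
      rw [hCcard, ← Nat.not_even_iff_odd, even_iff_two_dvd]
      exact S.not_dvd_index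
    refine ⟨C.map E.subtype, (S : Subgroup E).map E.subtype, ?_, ?_, ?_, ?_, n, ⟨e⟩⟩
    · rw [← Subgroup.map_sup, sup_comm, hC.sup_eq_top, ← MonoidHom.range_eq_map,
        Subgroup.range_subtype]
    · rintro _ ⟨a, ha, rfl⟩ _ ⟨b, hb, rfl⟩
      obtain ⟨j, hj⟩ := IsPGroup.iff_orderOf.1 S.isPGroup' ⟨b, hb⟩
      rw [Subgroup.orderOf_mk] at hj
      have hcop : (orderOf a).Coprime (orderOf b) := by
        rw [hj]
        exact ((Nat.coprime_two_right.2 hodd).coprime_dvd_left
          (Subgroup.orderOf_dvd_natCard C ha)).pow_right _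
      rw [← map_mul, ← map_mul, OddLocal.commute_of_coprime_orderOf a b hcop]
    · have hcy : ∀ (R : Subgroup C) (p : ℕ), p.Prime → IsPGroup p R → IsCyclic R := by
        intro R p hp hR
        have := Fact.mk hp
        let ψ := R.equivMapOfInjective (E.subtype.comp C.subtype)
          ((E.subtype_injective).comp C.subtype_injective)
        rcases hsylow p (R.map (E.subtype.comp C.subtype))
          (by rintro _ ⟨a, -, rfl⟩; exact (a : E).2) (hR.map _) with h | ⟨h, -⟩
        · exact isCyclic_of_surjective ψ.symm ψ.symm.surjective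
        · subst h
          obtain ⟨k, hk⟩ := IsPGroup.iff_card.1 hR
          have hk0 : k = 0 := by
            by_contra h0
            have h2 : 2 ∣ Nat.card R := hk ▸ dvd_pow_self 2 h0
            exact (Nat.not_even_iff_odd.2 hodd) (even_iff_two_dvd.2 (h2.trans R.card_subgroup_dvd_card))
          rw [hk0, pow_zero] at hk
          rw [Subgroup.eq_bot_of_card_eq _ hk]
          infer_instance
      have : IsZGroup C := ⟨fun p hp R => hcy R p hp R.isPGroup'⟩
      have : IsCyclic C := inferInstance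
      exact isCyclic_of_surjective (C.equivMapOfInjective _ E.subtype_injective)
        (MulEquiv.surjective _)
    · rwa [Subgroup.card_map_of_injective E.subtype_injective]

/-- The Frobenius decomposition for a CN-group with a normal Sylow subgroup. -/
theorem frobenius_of_normal_sylow (hCN : Cfsg.IsCNGroup G) (hnn : ¬ Group.IsNilpotent G) {p : ℕ}
    [Fact p.Prime] (S : Sylow p G) (hS1 : (S : Subgroup G) ≠ ⊥) (hSn : (S : Subgroup G).Normal) :
    Cfsg.fittingHall G ≠ ⊥ ∧ Cfsg.fittingHall G ≠ ⊤ ∧ ∃ E : Subgroup G,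
      Subgroup.IsComplement' (Cfsg.fittingHall G) E ∧ Cfsg.IsFrobeniusComplement E ∧
      (∀ e ∈ E, e ≠ 1 → Cfsg.fittingHall G ⊓ Subgroup.centralizer ({e} : Set G) = ⊥) ∧
      Group.IsNilpotent E := by
  set F := Cfsg.fittingHall G with hF
  obtain ⟨hFn, hFnil, hFhall⟩ := OddLocal.fittingHall_spec (G := G)
  have hF1 : F ≠ ⊥ := fun e => hS1 (le_bot_iff.1 (e ▸ sylow_le_fittingHall S hSn))
  have hFtop : F ≠ ⊤ := fun e => hnn (by
    rw [← hF, e] at hFnil
    exact Group.nilpotent_of_mulEquiv Subgroup.topEquiv)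
  obtain ⟨E, hE⟩ := Subgroup.exists_right_complement'_of_coprime hFhall
  have hE1 : E ≠ ⊥ := by
    rintro rfl
    exact hFtop (by simpa using hE.sup_eq_top)
  have hfpf : ∀ e ∈ E, e ≠ 1 → F ⊓ Subgroup.centralizer ({e} : Set G) = ⊥ := by
    intro e he he1
    refine (Subgroup.eq_bot_iff_forall _).2 fun x hx => by_contra fun hx1 => he1 ?_
    have := centralizer_le_kernel hCN hFnil hFhall
      (fun N _ hN => le_fittingHall_of_normal_sylow hCN S hS1 hSn hN) (Subgroup.mem_inf.1 hx).1 hx1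
      (Subgroup.mem_centralizer_singleton_iff.2
        (Subgroup.mem_centralizer_singleton_iff.1 (Subgroup.mem_inf.1 hx).2).symm)
    exact Subgroup.mem_bot.1 (hE.disjoint.eq_bot ▸ Subgroup.mem_inf.2 ⟨this, he⟩)
  have hEF : E ≤ Subgroup.normalizer (F : Set G) := by
    rw [Subgroup.normalizer_eq_top]; exact le_top
  exact ⟨hF1, hFtop, E, hE, (CfsgLib.Solvable.isFrobeniusComplement_iff_fpf hE hF1 hE1).2 hfpf, hfpf,
    isNilpotent_of_fpf hCN hF1 hEF hfpf⟩

end CfsgLib.CN
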